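import Cfsg.Agent.BG.Aux13
import Cfsg.Agent.S0046
import Cfsg.Prelude.Def_SolvableStructure

/-! Minimal non-nilpotent (Schmidt) groups: `schmidt` (a normal Sylow `q`-subgroup `Q` and a
`p`-element `x` not centralising `Q` with `Q ⟨x⟩ = G`), `sol_of_proper_nil`, `maxSub_der`
(a maximal subgroup over the derived subgroup), `nil_top_iff`. -/

namespace Cfsg.Agent.SolvStr
open Subgroup Cfsg.Agent.BG

variable {G : Type*} [Group G]

theorem nil_top_iff : Group.IsNilpotent (⊤ : Subgroup G) ↔ Group.IsNilpotent G :=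
  ⟨isog_nil (isog_symm isog_top), isog_nil isog_top⟩

theorem abelian_top_iff : IsMulCommutative (⊤ : Subgroup G) ↔ IsMulCommutative G :=
  ⟨isog_abelian (isog_symm isog_top), isog_abelian isog_top⟩

variable [Finite G]

theorem sol_of_proper_nil {H : Subgroup G} (h : ∀ A < H, Group.IsNilpotent A) : Group.IsSolvable H :=
  S0046.result fun M hM => isog_nil (isog_symm (isog_map_inj H.subtype_injective M))
    (h _ (maxSub_of_isCoatom hM).lt)

theorem maxSub_der {H : Subgroup G} (hs : Group.IsSolvable H) (h1 : H ≠ ⊥) :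
    ∃ M, MaxSub M H ∧ M ⊴ H ∧ ∃ p : ℕ, p.Prime ∧ M.relIndex H = p := by
  obtain ⟨M, hle, hM⟩ := maxSub_exists (sol_der1_proper hs h1)
  have hn := sub_der1_normal hle hM.lt.le
  obtain ⟨p, hp, hd⟩ := exists_prime_dvd_card (quotient_neq1 hn.norm hM.lt.not_ge)
  obtain ⟨X, hX, hc⟩ := Cauchy_sub hp hd
  obtain ⟨A, hA1, hA2, rfl⟩ := inv_quotientS hn hX
  refine ⟨M, hM, hn, p, hp, ?_⟩
  rcases hA2.lt_or_eq with h | rfl
  · rw [hM.max A hA1 h, trivg_quotient, card_bot] at hc; exact absurd hc.symm hp.ne_one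
  · rw [← card_quotient hn.norm, hc]

/-- The structure of minimal non-nilpotent groups. -/
structure Schmidt (p q : ℕ) (x : G) (Q : Subgroup G) : Prop where
  pp : p.Prime
  pq : q.Prime
  ne : p ≠ q
  sylQ : SylowIn q Q ⊤
  normal : Q ⊴ ⊤
  sylP : SylowIn p (zpowers x) ⊤
  sup : Q ⊔ zpowers x = ⊤
  ncent : ¬ zpowers x ≤ C[Q]

theorem schmidt (hG : IsMinimalNonNilpotent G) : ∃ p q x Q, Schmidt (G := G) p q x Q := by
  have hn : ¬ Group.IsNilpotent (⊤ : Subgroup G) := mt nil_top_iff.1 hG.1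
  obtain ⟨M, hM, hMn, p, hp, hi⟩ := maxSub_der (H := (⊤ : Subgroup G))
    (sol_of_proper_nil fun A hA => hG.2 A hA.ne) fun e => hn (e ▸ nilpotent_bot)
  have := Fact.mk hp
  have nM := hG.2 M hM.lt.ne
  obtain ⟨P, hP⟩ := Sylow_exists p (⊤ : Subgroup G)
  have hK : IsPiHallOf {p}ᶜ (Op' p M) ⊤ := pHall_trans_idx (nilpotent_pcore_Hall _ nM) le_top
    (by rw [hi, compl_compl]; exact (pnat_prime hp).2 rfl)
  have hKP : Op' p M ⊔ P = ⊤ := (compl_of_pHall hK (by rwa [compl_compl])).sup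
  have h1 : ¬ Op' p M ≤ C[P] := fun h =>
    hn (hKP ▸ cent_nil h (nilpotentS (pcore_sub _ _) nM) (pgroup_nil hP.pg))
  obtain ⟨q, hq, hqd, h2⟩ : ∃ q, q.Prime ∧ q ∣ #(Op' p M) ∧ ¬ Op q M ≤ C[P] := by
    by_contra! h
    refine h1 (le_of_Sylow_le fun q hq hd => ?_)
    have := Fact.mk hq
    obtain ⟨Q, hQ⟩ := Sylow_exists q (Op' p M)
    exact ⟨Q, hQ, (nilpotent_sub_pcore nM (hQ.le.trans (pcore_sub _ _)) hQ.pi).trans (h q hq hd)⟩
  have := Fact.mk hq
  have hne : q ≠ p := pcore_pgroup _ _ q hq hqd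
  obtain ⟨x, hxP, hx⟩ := SetLike.not_le_iff_exists.1 (mt cents_symm h2)
  have hx' : ¬ zpowers x ≤ C[Op q M] := by rwa [zpowers_le]
  have hQ : SylowIn q (Op q M) ⊤ := pHall_trans_idx (nilpotent_pcore_Hall _ nM) le_top
    (by rw [hi]; exact (pnat_prime hp).2 hne.symm)
  have hxp : IsPGroup p (zpowers x) := IsPGroup.sub hP.pg (zpowers_le.2 hxP)
  have hs : Op q M ⊔ zpowers x = ⊤ := by
    by_contra h
    exact hx' (sub_nilpotent_cent2 (hG.2 _ h) le_sup_right le_sup_left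
      (coprime_of_prime_ne hQ.pg hxp hne.symm))
  refine ⟨p, q, x, _, hp, hq, hne.symm, hQ, hMn.pcore _, ?_, hs, hx'⟩
  have : P = zpowers x := by
    rw [← inf_top_eq P, ← hs, group_modr (Or.inr (le_top.trans (hMn.pcore _).norm)) (zpowers_le.2 hxP),
      pgroup_p'_TI hP.pg (p'group_of_ne hQ.pg hne), bot_sup_eq]
  rwa [← this]

variable {p q : ℕ} {x : G} {Q : Subgroup G}

theorem Schmidt.coprime (h : Schmidt p q x Q) : (#Q).Coprime #(zpowers x) :=
  have := Fact.mk h.pp; have := Fact.mk h.pq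
  coprime_of_prime_ne h.sylP.pg h.sylQ.pg h.ne.symm

theorem Schmidt.norm (h : Schmidt p q x Q) (A : Subgroup G) : A ≤ N[Q] := le_top.trans h.normal.norm

theorem Schmidt.sdprod (h : Schmidt p q x Q) : Sdprod Q (zpowers x) ⊤ :=
  (IsComplIn.mk' (Or.inr (h.norm _)) h.sup (coprime_TI h.coprime)).sdprod (h.norm _)

/-- `q'`-subgroups of a Schmidt group are cyclic. -/
theorem Schmidt.cyclic (h : Schmidt p q x Q) {A : Subgroup G} (hA : PiGrp {q}ᶜ A) : IsCyclic A :=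
  isog_cyclic (isog_symm (quotient_isog (h.norm A) (pgroup_TI' hA h.sylQ.pi)))
    (cyclicS (quotientS Q le_top) (isog_cyclic h.sdprod.isog inferInstance))

theorem Schmidt.exists_sylow (h : Schmidt p q x Q) :
    ∃ (P : Sylow p G) (R : Sylow q G), (P : Subgroup G) = zpowers x ∧ (R : Subgroup G) = Q := by
  have := Fact.mk h.pp; have := Fact.mk h.pq
  obtain ⟨P, hP⟩ := sylow_of_sylowIn_top h.sylP
  obtain ⟨R, hR⟩ := sylow_of_sylowIn_top h.sylQ
  exact ⟨P, R, hP, hR⟩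

end Cfsg.Agent.SolvStr
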