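import Cfsg.Agent.SolvStr.Product
import Cfsg.Agent.S0558
import Cfsg.Agent.S0581
import Cfsg.Agent.S0143

/-! Wielandt's theorem: a finite product of two nilpotent subgroups of coprime orders is solvable
(`wielandt_coprime`); `prod_of_hall` (normal Hall subgroups of the factors of a solvable product
permute). -/

namespace Cfsg.Agent.SolvStr
open Subgroup Cfsg.Agent.BG

local notation "Sol" => Group.IsSolvable
local notation "Nil" => Group.IsNilpotent

universe u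
variable {G : Type u} [Group G] [Finite G]

theorem prod_of_hall {A B J P Q : Subgroup G} {π ρ : Set ℕ} (hs : Sol J) (h : IsProd A B J)
    (hP : A ≤ N[P]) (hQ : B ≤ N[Q]) (h1 : IsPiHallOf π P J) (h2 : IsPiHallOf ρ Q J) :
    IsProd P Q (P ⊔ Q) := by
  obtain ⟨R, hR, e1⟩ := Hall_superset (π := π ∪ ρ) hs h1.le (h1.pi.mono Set.subset_union_left)
  obtain ⟨g, hg, e2⟩ := Hall_subJ hs hR h2.le (h2.pi.mono Set.subset_union_right)
  obtain ⟨k, hk, a, ha, rfl⟩ := h.symm.exists_mul g hg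
  have f1 : P ≤ cj a R := (cj_of_norm (hP ha)).ge.trans (cj_mono a e1)
  have f2 : Q ≤ cj a R := by
    rw [cj_mul, le_cj_iff, cj_of_norm (hQ (inv_mem hk))] at e2
    exact e2
  have hR' := pHallJsub (h.left_le ha) hR
  refine (isProd_of_coprime_relIndex f1 f2 (Nat.coprime_of_dvd fun p hp d1 d2 => ?_)).sup
  rcases hR'.pi p hp (d1.trans (relIndex_dvd_card _ _)) with h3 | h3
  · exact (pHall_subl f1 hR'.le h1).idx p hp d1 h3
  · exact (pHall_subl f2 hR'.le h2).idx p hp d2 h3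

theorem IsProd.hall {A B L : Subgroup G} (h : IsProd A B L) {π : Set ℕ} (hA : PiGrp π A)
    (hB : PiGrp πᶜ B) : IsPiHallOf π A L :=
  pHall_mk h.left_le hA (hB.of_dvd h.symm.relIndex_dvd)

/-- A simple minimal counterexample to Wielandt's theorem. -/
structure WCex (A B : Subgroup G) : Prop where
  simple : ∀ N : Subgroup G, N.Normal → N = ⊥ ∨ N = ⊤
  prod : IsProd A B ⊤
  nA : Nil A
  nB : Nil B
  cop : (#A).Coprime #B
  sol : ∀ {A' B' L : Subgroup G}, L ≠ ⊤ → IsProd A' B' L → Nil A' → Nil B' →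
    (#A').Coprime #B' → Sol L
  pA : ∀ u : ℕ, ∃ v : ℕ, v.Prime ∧ v ∣ #A ∧ v ≠ u
  pB : ∀ u : ℕ, ∃ v : ℕ, v.Prime ∧ v ∣ #B ∧ v ≠ u

namespace WCex
variable {A B : Subgroup G}

theorem symm (h : WCex A B) : WCex B A :=
  ⟨h.simple, h.prod.symm, h.nB, h.nA, h.cop.symm, h.sol, h.pB, h.pA⟩

theorem cjB (h : WCex A B) (y : G) : WCex A (cj y B) :=
  ⟨h.simple, cj_eq_smul y B ▸ h.prod.conj_right (mem_top y), h.nA, nilpotentJ y h.nB,
    by rw [card_cj]; exact h.cop, h.sol, h.pA, by rw [card_cj]; exact h.pB⟩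

theorem ne_bot (h : WCex A B) : A ≠ ⊥ := fun e => by
  obtain ⟨v, hv, hd, -⟩ := h.pA 0
  rw [e, card_bot] at hd
  exact hv.one_lt.ne' (Nat.dvd_one.1 hd)

theorem TI (h : WCex A B) : A ⊓ B = ⊥ := coprime_TI h.cop

theorem ne_top (h : WCex A B) : A ≠ ⊤ := fun e => h.symm.ne_bot (by
  have := h.TI; rwa [e, top_inf_eq] at this)

theorem piB (h : WCex A B) : PiGrp (primesOf #A)ᶜ B := coprime_pi'.1 h.cop

theorem hallL (h : WCex A B) {L : Subgroup G} (hL : IsProd (A ⊓ L) (B ⊓ L) L) :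
    IsPiHallOf (primesOf #A) (A ⊓ L) L :=
  hL.hall (pgroupS inf_le_left (pnat_pi _)) (pgroupS inf_le_left h.piB)

theorem hallL' (h : WCex A B) {L : Subgroup G} (hL : IsProd (A ⊓ L) (B ⊓ L) L) :
    IsPiHallOf (primesOf #A)ᶜ (B ⊓ L) L :=
  hL.symm.hall (pgroupS inf_le_left h.piB)
    (by rw [compl_compl]; exact pgroupS inf_le_left (pnat_pi _))

theorem hall (h : WCex A B) : IsPiHallOf (primesOf #A) A ⊤ := h.prod.hall (pnat_pi _) h.piB

theorem solL (h : WCex A B) {L : Subgroup G} (h1 : L ≠ ⊤) (hL : IsProd (A ⊓ L) (B ⊓ L) L) :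
    Sol L :=
  h.sol h1 hL (nilpotentS inf_le_left h.nA) (nilpotentS inf_le_left h.nB)
    (coprimeSS inf_le_left inf_le_left h.cop)

theorem norm_ne_top (h : WCex A B) {D : Subgroup G} (h1 : D ≠ ⊥) (h2 : D ≠ ⊤) : N[D] ≠ ⊤ :=
  fun e => (h.simple D (normalizer_eq_top_iff.1 e)).elim h1 h2

theorem syl (h : WCex A B) {p : ℕ} (hp : p.Prime) (hd : p ∣ #A) : SylowIn p (Op p A) ⊤ :=
  subHall_Sylow h.hall (mem_primesOf.2 ⟨hp, hd⟩) (nilpotent_pcore_Hall _ h.nA)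

theorem Op_ne (h : WCex A B) {p : ℕ} (hp : p.Prime) (hd : p ∣ #A) : Op p A ≠ ⊥ :=
  Hall_ne_bot (nilpotent_pcore_Hall _ h.nA) hp rfl hd

theorem dvd_or (h : WCex A B) {p : ℕ} (hp : p.Prime) {L : Subgroup G} (hd : p ∣ #L) :
    p ∣ #A ∨ p ∣ #B :=
  hp.dvd_mul.1 (hd.trans ((cardSg le_top).trans h.prod.card_dvd))

theorem sylow_gen (h : WCex A B) {p q : ℕ} (hp : p.Prime) (hd : p ∣ #A) (hq : q.Prime)
    (hd' : q ∣ #B) : Op p A ⊔ Op q B = ⊤ := by
  by_contra hne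
  have key : ∀ {B : Subgroup G}, WCex A B → q ∣ #B → Op p A ⊔ Op q B ≠ ⊤ →
      IsProd (Op p A) (Op q B) (Op p A ⊔ Op q B) := fun {B} h hd' hne => by
    have hJ := h.prod.normalizer_sup (pcore_normal {p} A).norm (pcore_normal {q} B).norm
    have h1 := h.norm_ne_top (D := Op p A ⊔ Op q B)
      (fun e => h.Op_ne hp hd (le_bot_iff.1 (le_sup_left.trans e.le))) hne
    exact prod_of_hall (h.solL h1 hJ) hJ (inf_le_left.trans (pcore_normal {p} A).norm)
      (inf_le_left.trans (pcore_normal {q} B).norm)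
      (pHall_subl (normsG le_sup_left) le_top (h.syl hp hd))
      (pHall_subl (normsG le_sup_right) le_top (h.symm.syl hq hd'))
  obtain ⟨N, hN, hN1, hle⟩ := kegel_lemma (Op p A) (Op q B) fun x => by
    obtain ⟨g, -, e1, e2⟩ := h.prod.exists_conj_eq (mem_top 1) (mem_top x)
    simp only [cj_eq_smul, cj_one] at e1 e2
    have hne' : Op p A ⊔ Op q (cj x B) ≠ ⊤ := by
      rw [e2, congrArg (Op p) e1]
      unfold Op at *
      rw [pcoreJ, pcoreJ, ← cj_sup, Ne, cj_eq_top]; exact hne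
    refine ⟨_, hne', ?_⟩
    rw [cj_eq_smul, ← pcoreJ]
    exact key (h.cjB x) (by rwa [card_cj]) hne'
  have := (h.simple N hN).resolve_right hN1
  subst this
  exact hle.elim (fun e => h.Op_ne hp hd (le_bot_iff.1 e))
    fun e => h.symm.Op_ne hq hd' (le_bot_iff.1 e)

theorem Op_le_Op' {u r : ℕ} (hu : u ≠ r) (A : Subgroup G) : Op u A ≤ Op' r A :=
  sub_pcore A (by simpa using hu.symm)

theorem gen_step (h : WCex A B) {A0 B0 : Subgroup G} (hA : A0 ⊴ A) (hB : B0 ⊴ B)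
    (hne : A0 ⊔ B0 ≠ ⊤) (hmax : ∀ A', A' ⊴ A ∧ A' ⊔ B0 ≠ ⊤ → A0 ≤ A' → A' = A0)
    {r : ℕ} (hr : r.Prime) (hd : r ∣ #A) (h1 : Op r (A0 ⊔ B0) ≠ ⊥) :
    Op' r A ≤ A0 ∧ Op r (A0 ⊔ B0) ≤ A := by
  have hJ := h.prod.normalizer_sup hA.norm hB.norm
  have hV : Op r (A0 ⊔ B0) ≤ A := (normal_sub_Hall (h.hallL hJ) ((normalG _).pcore {r})
    (pi_pnat (pcore_pgroup _ _) (mem_primesOf.2 ⟨hr, hd⟩))).trans inf_le_left
  have hc : Op' r A ≤ N[Op r (A0 ⊔ B0)] := cents_norm (sub_nilpotent_cent2 h.nA (pcore_sub _ _) hV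
    (pnat_coprime' (pcore_pgroup _ _) (pcore_pgroup _ _)))
  have hn := (pcore_normal {r} (A0 ⊔ B0)).norm
  have := hmax (A0 ⊔ Op' r A) ⟨hA.sup (pcore_normal _ _), fun e =>
    h.norm_ne_top h1 (fun e => h.ne_top (top_le_iff.1 (e.ge.trans hV))) (top_le_iff.1 (e.ge.trans
      (sup_le (sup_le (le_sup_left.trans hn) hc) (le_sup_right.trans hn))))⟩ le_sup_left
  exact ⟨le_sup_right.trans this.le, hV⟩

theorem gen_step2 (h : WCex A B) {A0 B0 : Subgroup G} (hA : A0 ⊴ A) (hB : B0 ⊴ B) (hB1 : B0 ≠ ⊥)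
    (hne : A0 ⊔ B0 ≠ ⊤) (hmax : ∀ A', A' ⊴ A ∧ A' ⊔ B0 ≠ ⊤ → A0 ≤ A' → A' = A0)
    (hmax' : ∀ B', B' ⊴ B ∧ B' ⊔ A0 ≠ ⊤ → B0 ≤ B' → B' = B0)
    {r : ℕ} (hr : r.Prime) (hd : r ∣ #A) (h1 : Op r (A0 ⊔ B0) ≠ ⊥) : False := by
  have := Fact.mk hr
  obtain ⟨e1, e2⟩ := h.gen_step hA hB hne hmax hr hd h1
  have hJ := h.prod.normalizer_sup hA.norm hB.norm
  have hs : Sol (A0 ⊔ B0 : Subgroup G) := solvableS (normG _) (h.solL (h.norm_ne_top
    (fun e => hB1 (le_bot_iff.1 (le_sup_right.trans e.le))) hne) hJ)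
  obtain ⟨u, hu, hud, hur⟩ := h.pA r
  obtain ⟨s, hs', hsr, h2⟩ : ∃ s : ℕ, s.Prime ∧ s ≠ r ∧ Op s (A0 ⊔ B0) ≠ ⊥ := by
    by_contra hc
    push Not at hc
    have hF : fittingOf (A0 ⊔ B0) ≤ Op r (A0 ⊔ B0) := Fitting_le_of_pcore fun p hp _ => by
      by_cases e : p = r
      · exact e ▸ le_rfl
      · exact (hc p hp e).le.trans bot_le
    have h3 : Op' r A ≤ Op r (A0 ⊔ B0) := (le_inf (e1.trans le_sup_left)
      (centsS hF (sub_nilpotent_cent2 h.nA (pcore_sub _ _) e2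
        (pnat_coprime' (pcore_pgroup _ _) (pcore_pgroup _ _))))).trans
      ((cent_sub_Fitting hs).trans hF)
    exact h.Op_ne hu hud (le_bot_iff.1 ((Op_le_Op' hur A).trans
      (trivg_of_pi (pgroupS h3 (pcore_pgroup _ _)) (pcore_pgroup _ _)).le))
  have hsd : s ∣ #(Op s (A0 ⊔ B0)) := by
    have := Fact.mk hs'
    exact pgroup_pdiv (Op_pgroup _ _) h2
  rcases h.dvd_or hs' hsd with hd' | hd'
  · have e3 := (h.gen_step hA hB hne hmax hs' hd' h2).1
    have e4 : A ≤ A0 := (nilpotent_pcoreC {r} h.nA).sup.ge.trans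
      (sup_le ((Op_le_Op' hsr.symm A).trans e3) e1)
    have e5 := h.prod.normalClosure_le (e4.trans le_sup_left) le_sup_right hB.norm
    rcases h.simple (normalClosure (B0 : Set G)) inferInstance with e | e
    · exact hB1 (le_bot_iff.1 (le_normalClosure.trans e.le))
    · exact hne (top_le_iff.1 (e.ge.trans e5))
  · have e3 := (h.symm.gen_step hB hA (by rwa [sup_comm]) hmax' hs' hd' (by rwa [sup_comm])).1
    obtain ⟨t, ht, htd, hts⟩ := h.pB s
    exact hne (top_le_iff.1 ((h.sylow_gen hu hud ht htd).ge.trans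
      (sup_le_sup ((Op_le_Op' hur A).trans e1) ((Op_le_Op' hts B).trans e3))))

theorem gen (h : WCex A B) {A0 B0 : Subgroup G} (hA : A0 ⊴ A) (hB : B0 ⊴ B) (hA1 : A0 ≠ ⊥)
    (hB1 : B0 ≠ ⊥) : A0 ⊔ B0 = ⊤ := by
  by_contra hne
  obtain ⟨A1, l1, ⟨n1, hne1⟩, m1⟩ :=
    maxgroup_exists (P := fun A' => A' ⊴ A ∧ A' ⊔ B0 ≠ ⊤) ⟨hA, hne⟩
  obtain ⟨B1, l2, ⟨n2, hne2⟩, m2⟩ :=
    maxgroup_exists (P := fun B' => B' ⊴ B ∧ B' ⊔ A1 ≠ ⊤) ⟨hB, by rwa [sup_comm]⟩
  have m1' : ∀ A', A' ⊴ A ∧ A' ⊔ B1 ≠ ⊤ → A1 ≤ A' → A' = A1 := fun A' h1 h2 =>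
    m1 A' ⟨h1.1, fun e => h1.2 (top_le_iff.1 (e.ge.trans (sup_le_sup_left l2 _)))⟩ h2
  have a1 : A1 ≠ ⊥ := fun e => hA1 (le_bot_iff.1 (l1.trans e.le))
  have b1 : B1 ≠ ⊥ := fun e => hB1 (le_bot_iff.1 (l2.trans e.le))
  have hne3 : A1 ⊔ B1 ≠ ⊤ := by rwa [sup_comm]
  have h0 : A1 ⊔ B1 ≠ ⊥ := fun e => b1 (le_bot_iff.1 (le_sup_right.trans e.le))
  have hs : Sol (A1 ⊔ B1 : Subgroup G) := solvableS (normG _) (h.solL (h.norm_ne_top h0 hne3)
    (h.prod.normalizer_sup n1.norm n2.norm))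
  obtain ⟨r, hr, hd, h1⟩ : ∃ r : ℕ, r.Prime ∧ r ∣ #(fittingOf (A1 ⊔ B1)) ∧ Op r (A1 ⊔ B1) ≠ ⊥ := by
    by_contra hc
    push Not at hc
    exact h0 (trivg_Fitting hs (le_bot_iff.1 (Fitting_le_of_pcore fun p hp hd => (hc p hp hd).le)))
  rcases h.dvd_or hr hd with hd' | hd'
  · exact h.gen_step2 n1 n2 b1 hne3 m1' m2 hr hd' h1
  · exact h.symm.gen_step2 n2 n1 a1 hne2 m2 m1' hr hd' (by rwa [sup_comm])

theorem no_norm (h : WCex A B) {A0 S : Subgroup G} (hA : A0 ⊴ A) (hA1 : A0 ≠ ⊥) (hS : S ≤ B)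
    (hn : A0 ≤ N[S]) : S = ⊥ := by
  by_contra h1
  exact h.norm_ne_top h1 (fun e => h.symm.ne_top (top_le_iff.1 (e.ge.trans hS))) (top_le_iff.1
    ((h.gen hA (center_normal B) hA1 (center_nil_ne_bot h.nB h.symm.ne_bot)).ge.trans
      (sup_le hn (cents_norm (centsS hS (center_cent B))))))

theorem norm_of_fact (h : WCex A B) {L : Subgroup G} (h1 : L ≠ ⊤) (hL : IsProd (A ⊓ L) (B ⊓ L) L)
    (hZ : Z[A] ≤ L) : L ≤ N[A ⊓ L] := by
  have hs := h.solL h1 hL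
  have Z1 := center_nil_ne_bot h.nA h.ne_bot
  have hF : fittingOf L ≤ A ⊓ L := Fitting_le_of_pcore fun p hp hd => by
    by_cases e : p ∈ primesOf #A
    · exact normal_sub_Hall (h.hallL hL) (pcore_normal _ _) (pi_pnat (pcore_pgroup _ _) e)
    · exact (h.no_norm (center_normal A) Z1 ((normal_sub_Hall (h.hallL' hL) (pcore_normal _ _)
        (pi_pnat (pcore_pgroup _ _) e)).trans inf_le_left)
        (hZ.trans (pcore_normal _ _).norm)).le.trans bot_le
  have hZF : Z[A] ≤ fittingOf L :=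
    (le_inf hZ (centsS (hF.trans inf_le_left) (center_cent A))).trans (cent_sub_Fitting hs)
  have key : ∀ v : ℕ, v.Prime → v ∣ #A → L ⊓ C[Op v L] ≤ fittingOf L := fun v hv hd => by
    have := Fact.mk hv
    have nC : L ⊓ C[Op v L] ⊴ L := (pcore_normal {v} L).cent
    have z1 : Z[Op v A] ≠ ⊥ := center_nil_ne_bot (pgroup_nil (Op_pgroup _ _)) (h.Op_ne hv hd)
    have z2 : Z[Op v A] ≤ Op v L := pgroup_sub_Fitting (le_trans (le_inf
      ((center_sub _).trans (pcore_sub _ _)) ((le_cent_sup (center_cent _) ((center_sub _).trans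
        (pcore_cent_pcoreC {v} A))).trans
        (by rw [(nilpotent_pcoreC {v} h.nA).sup]))) hZF) ((Op_pgroup v A).sub (center_sub _))
    have e := h.no_norm (pcore_normal {v} A).center z1
      (S := B ⊓ L ⊓ (L ⊓ C[Op v L])) (inf_le_left.trans inf_le_left)
      (cents_norm (cents_symm (centsS z2 (inf_le_right.trans inf_le_right))))
    have e' := Hall_setI_normal nC (h.hallL' hL)
    rw [e] at e'
    have e'' := p'group_of_Hall_bot e'
    rw [compl_compl] at e''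
    exact Fitting_max nC (nilpotentS ((normal_sub_Hall (h.hallL hL) nC e'').trans inf_le_left) h.nA)
  have hF' : A ⊓ L ≤ fittingOf L := le_of_pgroup_le fun u hu P hP hp => by
    obtain ⟨v, hv, hd, hvu⟩ := h.pA u
    have := Fact.mk hv
    have := Fact.mk hu
    exact (le_inf (hP.trans inf_le_right) (sub_nilpotent_cent2 h.nA (hP.trans inf_le_left)
      ((pcore_sub_Fitting v L).trans (hF.trans inf_le_left))
      (coprime_of_prime_ne (Op_pgroup v L) hp hvu.symm))).trans (key v hv hd)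
  rw [← le_antisymm hF hF']
  exact (Fitting_normal L).norm

theorem norm_le (h : WCex A B) {A0 : Subgroup G} (hA : A0 ⊴ A) (hA1 : A0 ≠ ⊥) : N[A0] ≤ N[A] := by
  have e : A ⊓ N[A0] = A := inf_eq_left.2 hA.norm
  have := h.norm_of_fact (h.norm_ne_top hA1 fun e => h.ne_top (top_le_iff.1 (e.ge.trans hA.le)))
    (by rw [e]; exact h.prod.of_left_le hA.norm) ((center_sub A).trans hA.norm)
  rwa [e] at this

theorem le_norm_of_fact (h : WCex A B) {L : Subgroup G} (h1 : L ≠ ⊤)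
    (hL : IsProd (A ⊓ L) (B ⊓ L) L) (hZ : Z[A] ≤ L) {v : ℕ} (hv : v.Prime) (hd : v ∣ #A)
    (hP : Op v A ≤ L) : L ≤ N[A] :=
  (norms_Hall_nil (nilpotentS inf_le_left h.nA) (pHall_subl (le_inf (pcore_sub _ _) hP) le_top
    (h.syl hv hd)) (h.norm_of_fact h1 hL hZ)).trans (h.norm_le (pcore_normal _ _) (h.Op_ne hv hd))

theorem cent1_ne_top (h : WCex A B) {a : G} (ha : a ∈ A) (h1 : a ≠ 1) : C1[a] ≠ ⊤ := fun e =>
  h.norm_ne_top (zpowers_ne_bot.2 h1) (fun e => h.ne_top (top_le_iff.1 (e.ge.trans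
    (zpowers_le.2 ha)))) (top_le_iff.1 (e.ge.trans (cent1_le_norm_zpowers a)))

theorem Op_le_cent1 (h : WCex A B) {a : G} (ha : a ∈ A) {u v : ℕ} (pa : PiElt {u} a)
    (hvu : v ≠ u) : Op v A ≤ C1[a] := fun _ hx =>
  mem_cent1.2 (S0558.comm_of_pi h.nA ha (pcore_sub _ _ hx) pa
    ((mem_p_elt (pcore_pgroup _ _) hx).mono (by simpa using hvu.symm))).symm

theorem Z_le_cent1 {a : G} (ha : a ∈ A) : Z[A] ≤ C1[a] := (center_cent A).trans (cent_le_cent1 ha)

theorem cent_A1 (h : WCex A B) {a : G} (ha : a ∈ A) (hn : a ∈ N[B]) (h1 : a ≠ 1) {u : ℕ}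
    (pa : PiElt {u} a) : C1[a] ≤ N[A] := by
  obtain ⟨v, hv, hd, hvu⟩ := h.pA u
  refine h.le_norm_of_fact (h.cent1_ne_top ha h1) ⟨inf_le_right, inf_le_right, fun c hc => ?_⟩
    (Z_le_cent1 ha) hv hd (h.Op_le_cent1 ha pa hvu)
  obtain ⟨x, hx, g, hg, rfl⟩ := h.prod.exists_mul c (mem_top c)
  have e := mem_cent1.1 hc
  have e1 : g * a * g⁻¹ * a⁻¹ ∈ A ⊓ B := mem_inf.2 ⟨by
    have : g * a * g⁻¹ * a⁻¹ = x⁻¹ * a * x * a⁻¹ := by
      calc g * a * g⁻¹ * a⁻¹ = x⁻¹ * (x * g * a) * g⁻¹ * a⁻¹ := by group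
        _ = _ := by rw [e]; group
    rw [this]
    exact mul_mem (mul_mem (mul_mem (inv_mem hx) ha) hx) (inv_mem ha), by
    have := mul_mem hg (conj_mem_of_norm hn (inv_mem hg))
    simpa only [mul_assoc] using this⟩
  rw [h.TI, mem_bot] at e1
  have e2 : g ∈ C1[a] := mem_cent1.2 (by
    calc g * a = g * a * g⁻¹ * a⁻¹ * (a * g) := by group
      _ = _ := by rw [e1, one_mul])
  exact ⟨x, ⟨hx, by simpa using mul_mem hc (inv_mem e2)⟩, g, ⟨hg, e2⟩, rfl⟩

theorem factN (h : WCex A B) : IsProd (A ⊓ N[A]) (B ⊓ N[A]) N[A] := by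
  rw [inf_eq_left.2 (normG A)]; exact h.prod.of_left_le (normG A)

theorem cent_pi (h : WCex A B) {x : G} (hx : x ∈ A) (h1 : x ≠ 1) {u : ℕ} (px : PiElt {u} x) :
    C1[x] ≤ N[A] ∨ C1[x] ⊓ N[A] ≤ A := by
  by_cases hp : PiGrp (primesOf #A) (C1[x] ⊓ N[A])
  · exact Or.inr (sub_normal_Hall (pHall_subl (normG A) le_top h.hall) (normalG A) inf_le_right hp)
  left
  obtain ⟨s, hs, hd, hs'⟩ : ∃ s : ℕ, s.Prime ∧ s ∣ #(C1[x] ⊓ N[A]) ∧ s ∉ primesOf #A := by
    by_contra hc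
    push Not at hc
    exact hp hc
  obtain ⟨b, hb, ob⟩ := Cauchy hs hd
  obtain ⟨g, hg, e⟩ := Hall_Jsub (h.solL (h.norm_ne_top h.ne_bot h.ne_top) h.factN)
    (h.hallL' h.factN) (zpowers_le.2 hb.2) (p_elt_zpowers.2 (by
      rw [PiElt, ob]; exact (pnat_prime hs).2 hs'))
  have e1 := e (conj_mem_cj g (mem_zpowers b))
  have e2 := h.symm.cent_A1 e1.1 e1.2
    (conj_ne_one.2 fun e => hs.one_lt.ne' (by rw [← ob, e, orderOf_one])) (u := s)
    (p_eltJ.2 (by rw [PiElt, ob]; exact (pnat_prime hs).2 rfl))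
  have e3 := h.cent_A1 (conj_mem_of_norm hg hx)
    (e2 (by rw [C1_conj]; exact conj_mem_cj g (mem_cent1_comm.1 hb.1))) (conj_ne_one.2 h1)
    (p_eltJ.2 px)
  rwa [C1_conj, cj_le_iff_of_mem hg] at e3

theorem cent_v (h : WCex A B) {a x : G} (ha : a ∈ A) (hn : a ∈ N[B]) (a1 : a ≠ 1) {u v : ℕ}
    (hu : u.Prime) (pa : PiElt {u} a) (hx : x ∈ A) (h1 : x ≠ 1) (px : PiElt {v} x) (hvu : u ≠ v) :
    C1[x] ≤ N[A] := by
  refine (h.cent_pi hx h1 px).elim id fun hc => ?_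
  have hud : u ∣ #A := by
    obtain ⟨r, hr, hd⟩ := exists_prime_dvd_orderOf a1
    exact (pa r hr hd : r = u) ▸ hd.trans (orderOf_dvd_cardG ha)
  refine h.le_norm_of_fact (h.cent1_ne_top hx h1) ⟨inf_le_right, inf_le_right, fun c hc' => ?_⟩
    (Z_le_cent1 hx) hu hud (h.Op_le_cent1 hx px hvu)
  obtain ⟨α, hα, g, hg, rfl⟩ := h.prod.exists_mul c (mem_top c)
  have e := mem_cent1.1 hc'
  have pa' : PiElt {v}ᶜ a := pa.mono (by simpa using hvu.symm)
  have c1 : a ∈ C1[x] := mem_cent1.2 (S0558.comm_of_pi h.nA hx ha px pa').symm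
  have c2 : g⁻¹ * a * g ∈ C1[x] := by
    have e1 : g * x * g⁻¹ = α⁻¹ * x * α := by
      calc g * x * g⁻¹ = α⁻¹ * (α * g * x) * g⁻¹ := by group
        _ = _ := by rw [e]; group
    rw [← mem_cj, ← C1_conj]
    exact mem_cent1.2 (S0558.comm_of_pi h.nA
      (e1 ▸ mul_mem (mul_mem (inv_mem hα) hx) hα) ha (p_eltJ.2 px) pa').symm
  have nE : zpowers a ≤ N[B ⊓ C1[x]] := normsI (zpowers_le.2 hn) (normsG (zpowers_le.2 c1))
  have co : (#B).Coprime #(zpowers a) := coprimegS (zpowers_le.2 ha) h.cop.symm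
  obtain ⟨k, hk, e2⟩ := SchurZassenhaus_sub (B := cj g⁻¹ (zpowers a)) nE (by
      rw [cj_zpowers, zpowers_le, inv_inv]
      have : g⁻¹ * a * g * a⁻¹ ∈ B ⊓ C1[x] := mem_inf.2 ⟨by
        have := mul_mem (inv_mem hg) (conj_mem_of_norm hn hg)
        simpa only [mul_assoc] using this, mul_mem c2 (inv_mem c1)⟩
      simpa using mul_mem_sup' this (mem_zpowers a))
    (coprimeSg inf_le_left co) (by rw [card_cj]; exact coprimeSg inf_le_left co)
    (Or.inr (Or.inl (abelian_sol (abelian_zpowers a))))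
  have e3 : g * k ∈ B ⊓ N[zpowers a] := ⟨mul_mem hg hk.1, by
    rw [cj_le_iff, inv_inv, ← cj_mul] at e2
    exact mem_norm.2 (eq_of_card_le e2 (card_cj _ _).le).symm⟩
  rw [coprime_norm_cent (zpowers_le.2 hn) co, C_zpowers] at e3
  have e4 : α * g * k ∈ C1[x] ⊓ N[A] := ⟨mul_mem hc' hk.2, by
    rw [mul_assoc]; exact mul_mem (normG A hα) (h.cent_A1 ha hn a1 pa e3.2)⟩
  exact ⟨α * g * k, ⟨hc e4, e4.1⟩, k⁻¹, inv_mem hk, by group⟩

theorem ti_aux (h : WCex A B) {x c : G} (hx : c * x * c⁻¹ ∈ A) {r : ℕ} (px : PiElt {r} x)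
    (hc : C1[x] ≤ N[A]) : c ∈ N[A] := by
  obtain ⟨v, hv, hd, hvr⟩ := h.pA r
  have e := h.Op_le_cent1 hx (p_eltJ.2 px) hvr
  rw [C1_conj, le_cj_iff] at e
  have nP : Op v A ⊴ N[A] := (normalG A).pcore _
  exact inv_mem_iff.1 (h.norm_le (pcore_normal _ _) (h.Op_ne hv hd) (mem_norm_of_cj_le
    (sub_normal_Hall (pHall_subl nP.le le_top (h.syl hv hd)) nP (e.trans hc)
      (pgroupJ _ (pcore_pgroup _ _)))))

theorem cent_all (h : WCex A B) {a d : G} (ha : a ∈ A) (hn : a ∈ N[B]) (a1 : a ≠ 1) {u r : ℕ}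
    (hu : u.Prime) (pa : PiElt {u} a) (hd : d ∈ A) (h1 : d ≠ 1) (pd : PiElt {r} d) :
    C1[d] ≤ N[A] := by
  by_cases hur : u = r
  swap
  · exact h.cent_v ha hn a1 hu pa hd h1 pd hur
  subst hur
  refine (h.cent_pi hd h1 pd).elim id fun hc => ?_
  obtain ⟨v, hv, hvd, hvu⟩ := h.pA u
  have := Fact.mk hv
  have hP := h.Op_le_cent1 hd pd hvu
  have sP := pHall_subl hP le_top (h.syl hv hvd)
  obtain ⟨K, hK, hs⟩ := (S0079.result ((Op v A).subgroupOf C1[d])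
    (isog_nil (isog_symm (isog_subgroupOf hP)) (pgroup_nil sP.pg))
    (by rw [card_subgroupOf hP]; exact sP.coprime)).2 (by
      rintro x hx _ hy ⟨c, rfl⟩
      by_cases x1 : (x : G) = 1
      · exact ⟨1, one_mem _, by simp [show x = 1 from Subtype.ext x1]⟩
      have px := mem_p_elt (pcore_pgroup _ _) hx
      have c1 : (c : G) ∈ A := hc ⟨c.2, h.ti_aux (pcore_sub _ _ hy) px
        (h.cent_v ha hn a1 hu pa (pcore_sub _ _ hx) x1 px hvu.symm)⟩
      have c2 := constt_mem_of_pi (nilpotent_pcore_Hall {v} h.nA) (pcore_normal _ _) c1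
      refine ⟨⟨_, hP c2⟩, c2, Subtype.ext ?_⟩
      have e1 : (x : G) * _ = _ * (x : G) :=
        S0558.comm_of_pi h.nA (pcore_sub _ _ hx) (constt_mem {v}ᶜ c1) px (p_elt_constt _ _)
      have e2 := consttC {v} (c : G)
      simp only [coe_mul, InvMemClass.coe_inv]
      generalize constt {v} (c : G) = y at *
      generalize constt {v}ᶜ (c : G) = z at *
      rw [← e2]
      calc y * x * y⁻¹ = y * (x * z) * z⁻¹ * y⁻¹ := by group
        _ = _ := by rw [e1]; group)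
  have nK : K.map (C1[d]).subtype ⊴ C1[d] := normal_map_subtype hK
  have iK : (Op v A).relIndex C1[d] = #(K.map (C1[d]).subtype) := by
    rw [card_map_subtype]; exact hs.index_eq_card
  have pK : PiGrp (primesOf #A) (K.map (C1[d]).subtype) := fun s hs' hsd => by
    by_contra hc'
    have := Fact.mk hs'
    obtain ⟨S, hS, nS⟩ := coprime_Sylow_exists s (hP.trans nK.norm) (iK ▸ sP.coprime.symm)
      (Or.inl (pgroup_sol sP.pg))
    obtain ⟨g, -, e⟩ := Sylow_subJ (h.symm.syl hs' ((h.dvd_or hs' hsd).resolve_left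
      fun e => hc' (mem_primesOf.2 ⟨hs', e⟩))) le_top hS.pg
    exact Sylow_ne_bot hS hsd ((h.cjB g).no_norm (pcore_normal _ _) (h.Op_ne hv hvd)
      (e.trans (cj_mono g (pcore_sub _ _))) nS)
  obtain ⟨g, hg⟩ := S0581.aux h.nA h.hall _ C1[d] (pgroup_of_idx hP
    (pi_pnat sP.pi (mem_primesOf.2 ⟨hv, hvd⟩)) (iK ▸ pK)) le_rfl
  exact (nilpotent_Hall_normal (nilpotentS hg (nilpotentJ g h.nA)) sP).norm.trans
    (h.norm_le (pcore_normal _ _) (h.Op_ne hv hvd))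

theorem A1_ne (h : WCex A B) : A ⊓ N[B] ≠ ⊥ := fun e => by
  have e1 : N[B] ≤ B := fun g hg => by
    obtain ⟨a, ha, b, hb, rfl⟩ := (h.prod.of_right_le (normG B)).exists_mul g hg
    rw [e, mem_bot] at ha
    rwa [ha, one_mul]
  obtain ⟨N, hN, hs⟩ := S0558.result B (fun p hp P e => by
      obtain ⟨v, hv, hd, hvp⟩ := h.pB p
      have := Fact.mk hp
      exact hvp ((e ▸ P.isPGroup' : IsPGroup p B).pi v hv hd))
    fun p hp hd P => by
      have := Fact.mk hp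
      have n := nilpotent_Hall_normal h.nB (sylowIn_of_sylow P)
      exact le_antisymm ((h.symm.norm_le n (Sylow_ne_bot (sylowIn_of_sylow P) hd)).trans e1) n.norm
  rw [isComplement'_iff_sdprod] at hs
  rcases h.simple N hN with rfl | rfl
  · exact h.symm.ne_top (by simpa using hs.sup)
  · exact h.symm.ne_bot (by simpa using hs.inf)

theorem card_le (h : WCex A B) : #A ≤ #B := by
  obtain ⟨a0, ha0, a01⟩ := exists_mem_ne_one h.A1_ne
  obtain ⟨a, ha, pa⟩ := exists_prime_order_pow a01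
  have ha' := zpowers_le.2 ha0 ha
  obtain ⟨y, -, hy⟩ := SetLike.exists_of_lt (h.norm_ne_top h.ne_bot h.ne_top).lt_top
  have ti : A ⊓ cj y⁻¹ A = ⊥ := by
    by_contra hne
    obtain ⟨d0, hd0, d01⟩ := exists_mem_ne_one hne
    obtain ⟨d, hd, pd⟩ := exists_prime_order_pow d01
    have hd' := zpowers_le.2 hd0 hd
    exact hy (h.ti_aux (mem_cj_inv.1 hd'.2) ((pnat_prime pd).2 rfl) (h.cent_all ha'.1 ha'.2
      (fun e => pa.one_lt.ne' (by rw [e, orderOf_one])) pa ((pnat_prime pa).2 rfl) hd'.1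
      (fun e => pd.one_lt.ne' (by rw [e, orderOf_one])) ((pnat_prime pd).2 rfl)))
  have e1 := card_mul_card_le (A := A) (B := cj y⁻¹ A) le_top le_top
  have e2 := h.prod.card_mul_card
  rw [ti, card_cj] at e1
  rw [h.TI] at e2
  exact Nat.le_of_mul_le_mul_left (e1.trans e2.le) (cardG_pos A)

theorem false (h : WCex A B) : False := by
  have e := le_antisymm h.card_le h.symm.card_le
  have := h.cop
  rw [← e, Nat.coprime_self] at this
  exact h.ne_bot (card_eq_one_iff.1 this)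

end WCex

theorem wielandt_aux (n : ℕ) : ∀ (G : Type u) [Group G] [Finite G] (A B : Subgroup G),
    IsProd A B ⊤ → Nil A → Nil B → (#A).Coprime #B → Nat.card G ≤ n → Sol G := by
  induction n with
  | zero => intro G _ _ A B _ _ _ _ h; exact absurd h (by simp [Nat.card_pos.ne'])
  | succ n ih =>
  intro G _ _ A B h nA nB co hn
  have sol : ∀ {A' B' L : Subgroup G}, L ≠ ⊤ → IsProd A' B' L → Nil A' → Nil B' →
      (#A').Coprime #B' → Sol L := fun {A' B' L} h1 h2 h3 h4 h5 =>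
    ih L _ _ h2.subgroupOf_top (isog_nil (isog_symm (isog_subgroupOf h2.left_le)) h3)
      (isog_nil (isog_symm (isog_subgroupOf h2.right_le)) h4)
      (by rwa [card_subgroupOf h2.left_le, card_subgroupOf h2.right_le])
      (by have := Solv.card_lt_of_ne_top h1; omega)
  by_cases hs : ∀ N : Subgroup G, N.Normal → N = ⊥ ∨ N = ⊤
  swap
  · push Not at hs
    obtain ⟨N, hN, h1, h2⟩ := hs
    have pB : PiGrp (primesOf #A)ᶜ B := coprime_pi'.1 co
    have hA := Hall_setI_normal (normal_top N) (h.hall (pnat_pi _) pB)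
    have hB := Hall_setI_normal (normal_top N)
      (h.symm.hall pB (by rw [compl_compl]; exact pnat_pi _))
    have : Sol N := sol h2 (isProd_of_coprime_relIndex hA.le hB.le (pnat_coprime hA.idx hB.idx))
      (nilpotentS inf_le_left nA) (nilpotentS inf_le_left nB) (coprimeSS inf_le_left inf_le_left co)
    have : Sol (G ⧸ N) := ih _ _ _ (h.map_top (QuotientGroup.mk'_surjective N))
      (nilpotent_map _ nA) (nilpotent_map _ nB)
      ((co.coprime_dvd_left (card_map_dvd _ _)).coprime_dvd_right (card_map_dvd _ _))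
      (by have := Solv.card_quotient_lt h1; omega)
    exact Solv.isSolvable_of_normal_of_quotient N
  by_contra hns
  have key : ∀ {A B : Subgroup G}, IsProd A B ⊤ → Nil A → Nil B →
      ∀ u : ℕ, ∃ v : ℕ, v.Prime ∧ v ∣ #A ∧ v ≠ u := fun {A B} h nA nB u => by
    by_contra hc
    push Not at hc
    have B1 : B ≠ ⊥ := fun e => hns (by
      have := h.eq_sup
      rw [e, sup_bot_eq] at this
      exact isog_sol (isog_symm isog_top) (nilpotent_sol (this ▸ nA)))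
    obtain ⟨z, hz, z1⟩ := exists_mem_ne_one (center_nil_ne_bot nB B1)
    have : Nontrivial G := ⟨z, 1, z1⟩
    have : IsSimpleGroup G := ⟨hs⟩
    have hd : C1[z].index ∣ #A := (index_dvd_of_le (le_cent1_iff.2 hz.2)).trans h.index_dvd
    obtain ⟨p, k, hp, e⟩ : ∃ p k : ℕ, p.Prime ∧ C1[z].index = p ^ k := by
      by_cases hu : u.Prime
      · obtain ⟨k, e⟩ := (p_natP hu).1 (PiNat.of_dvd (π := {u}) hc hd)
        exact ⟨u, k, hu, e⟩
      · refine ⟨2, 0, Nat.prime_two, Nat.eq_one_iff_not_exists_prime_dvd.2 fun p hp hd' => ?_⟩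
        exact hu (hc p hp (hd'.trans hd) ▸ hp)
    have := Fact.mk (S0143.result p k hp z z1 e)
    have := isCyclic_of_prime_card (α := G) rfl
    exact hns inferInstance
  exact WCex.false ⟨hs, h, nA, nB, co, sol, key h nA nB, key h.symm nB nA⟩

/-- Wielandt's theorem. -/
theorem wielandt_coprime {A B L : Subgroup G} (h : IsProd A B L) (nA : Nil A) (nB : Nil B)
    (co : (#A).Coprime #B) : Sol L :=
  wielandt_aux _ L _ _ h.subgroupOf_top (isog_nil (isog_symm (isog_subgroupOf h.left_le)) nA)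
    (isog_nil (isog_symm (isog_subgroupOf h.right_le)) nB)
    (by rwa [card_subgroupOf h.left_le, card_subgroupOf h.right_le]) le_rfl

end Cfsg.Agent.SolvStr
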